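import Cfsg.Agent.Lib.PGroup.Basic
import Mathlib.LinearAlgebra.Eigenspace.Triangularizable
import Mathlib.RingTheory.IntegralDomain
import Mathlib.Algebra.Field.GeomSum
import Mathlib.Algebra.Field.ZMod
import Mathlib.Data.Nat.Choose.Dvd
import Mathlib.RingTheory.RootsOfUnity.PrimitiveRoots

/-!
# A fixed vector outside a homogeneous normal subgroup with quotient of rank two

`Y` is a `p`-group, `p` odd, `T ⊴ Y` with `Y/T` elementary abelian of order `p²`, and `W` is a
representation over an algebraically closed field of another characteristic on which the centre of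
the span of `T` consists of scalars.  Then some element outside `T` fixes a non-zero vector
(`exists_fixed`).  Scalar case: a line of `Y/T` has its `p`-th power in the `p`-th powers of the
scalars of `T`.  Otherwise an element `a` central modulo the scalars splits `W` into eigenspaces
permuted by `T`, and one descends to one of them.
-/

set_option autoImplicit false
set_option linter.style.haveILetI false
set_option linter.unusedSectionVars false

namespace Cfsg.Agent.Camina

open Module

universe u v w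

/-- Powers of a product of two elements commuting up to a central scalar. -/
theorem mul_pow_of_comm_scalar {k A : Type*} [CommRing k] [Ring A] [Algebra k A] {a b : A} {z : k}
    (h : b * a = z • (a * b)) (n : ℕ) : (a * b) ^ n = z ^ n.choose 2 • (a ^ n * b ^ n) := by
  have hb : ∀ i : ℕ, b ^ i * a = z ^ i • (a * b ^ i) := by
    intro i
    induction i with
    | zero => simp
    | succ i ih =>
      rw [pow_succ, mul_assoc, h, mul_smul_comm, ← mul_assoc, ih, smul_mul_assoc, smul_smul,
        mul_assoc, pow_succ' z]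
  induction n with
  | zero => simp
  | succ n ih =>
    rw [pow_succ, ih, smul_mul_assoc, mul_assoc (a ^ n), ← mul_assoc (b ^ n), hb,
      smul_mul_assoc, mul_smul_comm, smul_smul, Nat.choose_succ_succ, Nat.choose_one_right,
      pow_add, mul_comm (z ^ n.choose 2)]
    congr 1
    rw [pow_succ, pow_succ, mul_assoc a, ← mul_assoc (a ^ n)]

variable {k : Type w} [Field k] [IsAlgClosed k] {p : ℕ} [hp : Fact p.Prime]

/-- The centre of the span of the operators of `T` consists of scalars. -/
def CentreScalar {Y : Type u} [Group Y] {W : Type v} [AddCommGroup W] [Module k W]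
    (ρ : Y →* Module.End k W) (T : Subgroup Y) : Prop :=
  ∀ X ∈ Submodule.span k (ρ '' (T : Set Y)), (∀ t ∈ T, X * ρ t = ρ t * X) →
    ∃ c : k, X = c • (1 : Module.End k W)

/-- Scalars on a nontrivial space are determined by the operator. -/
theorem smul_one_inj {W : Type v} [AddCommGroup W] [Module k W] [Nontrivial W] {a b : k}
    (h : a • (1 : Module.End k W) = b • 1) : a = b := by
  obtain ⟨w, hw⟩ := exists_ne (0 : W)
  have := LinearMap.congr_fun h w
  exact smul_left_injective k hw this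

/-- The case of scalars. -/
theorem exists_fixed_of_scalar (hp2 : p ≠ 2) {Y : Type u} [Group Y] [Finite Y] (hY : IsPGroup p Y)
    {W : Type v} [AddCommGroup W] [Module k W] [FiniteDimensional k W] [Nontrivial W]
    (ρ : Y →* Module.End k W) (π : Y →* Multiplicative (ZMod p × ZMod p))
    (hπ : Function.Surjective π) (hs : ∀ t ∈ π.ker, ∃ c : k, ρ t = c • (1 : Module.End k W)) :
    ∃ y, π y ≠ 1 ∧ ∃ w : W, w ≠ 0 ∧ ρ y w = w := by
  classical
  choose c hc using hs
  let cT : π.ker →* k :=
    { toFun := fun t => c t.1 t.2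
      map_one' := smul_one_inj (W := W) (by rw [← hc, one_smul]; exact map_one ρ)
      map_mul' := fun s t => smul_one_inj (W := W) (by
        rw [← hc, Subgroup.coe_mul, map_mul, hc s s.2, hc t t.2, smul_mul_smul_comm, one_mul]) }
  have hcT : ∀ t : π.ker, ρ t = cT t • (1 : Module.End k W) := fun t => hc t t.2
  let cu : π.ker →* kˣ := cT.toHomUnits
  have hcu : ∀ t, ((cu t : kˣ) : k) = cT t := fun t => rfl
  have hexp : ∀ z : Multiplicative (ZMod p × ZMod p), z ^ p = 1 := by
    intro z
    apply Multiplicative.toAdd.injective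
    rw [toAdd_pow, toAdd_one]
    ext <;> simp
  have hpow : ∀ y : Y, y ^ p ∈ π.ker := fun y => by rw [MonoidHom.mem_ker, map_pow, hexp]
  obtain ⟨u, hu⟩ := hπ (Multiplicative.ofAdd (1, 0))
  obtain ⟨w, hw⟩ := hπ (Multiplicative.ofAdd (0, 1))
  have hcomm : w * u * w⁻¹ * u⁻¹ ∈ π.ker := by
    rw [MonoidHom.mem_ker, map_mul, map_mul, map_mul, map_inv, map_inv, mul_comm (π w), mul_inv_cancel_right,
      mul_inv_cancel]
  set ζ := cT ⟨_, hcomm⟩
  set A := ρ u
  set B := ρ w
  have hBA : B * A = ζ • (A * B) := by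
    have e : ρ (w * u * w⁻¹ * u⁻¹) * (A * B) = B * A := by
      rw [← map_mul, ← map_mul, ← map_mul]; congr 1; group
    rw [← e, hcT ⟨_, hcomm⟩, smul_one_mul]
  have hinj : ∀ y : Y, Function.Injective (ρ y) := fun y => by
    refine Function.LeftInverse.injective (g := ρ y⁻¹) fun x => ?_
    rw [← Module.End.mul_apply, ← map_mul, inv_mul_cancel, map_one, Module.End.one_apply]
  -- the eigenvalue of a power lands among the scalars
  have hzp : ζ ^ p = 1 := by
    have h1 : ∀ i : ℕ, B ^ i * A = ζ ^ i • (A * B ^ i) := by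
      intro i
      induction i with
      | zero => simp
      | succ i ih =>
        rw [pow_succ, mul_assoc, hBA, mul_smul_comm, ← mul_assoc, ih, smul_mul_assoc, smul_smul,
          mul_assoc, pow_succ' ζ]
    have h2 := h1 p
    rw [show B ^ p = ρ (w ^ p) from (map_pow ρ w p).symm, hcT ⟨_, hpow w⟩, smul_one_mul, mul_smul_comm,
      mul_one, smul_smul] at h2
    obtain ⟨x, hx⟩ := exists_ne (0 : W)
    have h3 := LinearMap.congr_fun h2 x
    simp only [LinearMap.smul_apply] at h3
    have h4 : A x ≠ 0 := fun h0 => hx (hinj u (h0.trans (map_zero _).symm))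
    have h5 := smul_left_injective k h4 h3
    have h6 : cT ⟨_, hpow w⟩ ≠ 0 := fun h0 => (cu ⟨_, hpow w⟩).ne_zero ((hcu _).trans h0)
    exact mul_right_cancel₀ h6 (h5.symm.trans (one_mul _).symm)
  by_cases hS : cu.range = ⊥
  · -- no scalars: a common eigenvector
    have htriv : ∀ t : π.ker, cT t = 1 := fun t => by
      rw [← hcu, Subgroup.mem_bot.1 (hS ▸ ⟨t, rfl⟩ : cu t ∈ (⊥ : Subgroup kˣ)), Units.val_one]
    have hcommAB : B * A = A * B := by rw [hBA, show ζ = 1 from htriv _, one_smul]
    obtain ⟨μ, hμ⟩ := Module.End.exists_eigenvalue A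
    have hinv : ∀ x ∈ Module.End.eigenspace A μ, B x ∈ Module.End.eigenspace A μ := by
      intro x hx
      rw [Module.End.mem_eigenspace_iff] at hx ⊢
      rw [← Module.End.mul_apply, ← hcommAB, Module.End.mul_apply, hx, map_smul]
    haveI : Nontrivial (Module.End.eigenspace A μ) := Submodule.nontrivial_iff_ne_bot.2 hμ
    obtain ⟨ν, hν⟩ := Module.End.exists_eigenvalue (B.restrict hinv)
    obtain ⟨x, hx⟩ := hν.exists_hasEigenvector
    have hxA : A x.1 = μ • x.1 := Module.End.mem_eigenspace_iff.1 x.2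
    have hxB : B x.1 = ν • x.1 := congrArg Subtype.val hx.apply_eq_smul
    have hx0 : x.1 ≠ 0 := fun h => hx.2 (Subtype.ext h)
    have hpw : ∀ (y : Y) (l : k), ρ y x.1 = l • x.1 → ∀ i : ℕ, ρ (y ^ i) x.1 = l ^ i • x.1 := by
      intro y l h i
      induction i with
      | zero => simp
      | succ i ih => rw [pow_succ, map_mul, Module.End.mul_apply, h, map_smul, ih, smul_smul, pow_succ']
    have hroot : ∀ (y : Y) (l : k), ρ y x.1 = l • x.1 → l ^ p = 1 := by
      intro y l h
      have h1 := hpw y l h p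
      rw [hcT ⟨_, hpow y⟩, htriv, one_smul, Module.End.one_apply] at h1
      exact (smul_left_injective k hx0 ((one_smul k x.1).trans h1)).symm
    by_cases hμ1 : μ = 1
    · refine ⟨u, ?_, x.1, hx0, ?_⟩
      swap
      · exact hxA.trans ((congrArg (fun l : k => l • x.1) hμ1).trans (one_smul _ _))
      rw [hu]
      intro h
      exact one_ne_zero (α := ZMod p) (congrArg (fun z => z.toAdd.1) h)
    · have hprim : IsPrimitiveRoot μ p := by
        refine (IsPrimitiveRoot.iff_orderOf).2 (orderOf_eq_prime (hroot u μ hxA) hμ1)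
      obtain ⟨i, -, hi⟩ := hprim.eq_pow_of_pow_eq_one (hroot w ν hxB)
      refine ⟨w * u ^ ((p - 1) * i), ?_, x.1, hx0, ?_⟩
      · rw [map_mul, map_pow, hu, hw]
        intro h
        have := congrArg (fun z => z.toAdd.2) h
        simp at this
      · rw [map_mul, Module.End.mul_apply, hpw u μ hxA, map_smul, show ρ w x.1 = B x.1 from rfl,
          hxB, smul_smul, ← hi, ← pow_add,
          show (p - 1) * i + i = p * i by
            rw [← Nat.succ_mul, Nat.succ_eq_add_one, Nat.sub_add_cancel hp.out.one_le],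
          pow_mul, hprim.pow_eq_one, one_pow, one_smul]
  · -- choose a line whose `p`-th power is a `p`-th power of a scalar
    haveI : Finite cu.range := (Set.finite_range cu).to_subtype
    obtain ⟨⟨σ, hσ⟩, hgen⟩ := IsCyclic.exists_generator (α := cu.range)
    obtain ⟨t₀, rfl⟩ := hσ
    have hgen' : ∀ t, ∃ n : ℕ, cu t = cu t₀ ^ n := fun t => by
      obtain ⟨n, hn⟩ := (mem_powers_iff_mem_zpowers.2 (hgen ⟨cu t, t, rfl⟩))
      exact ⟨n, (congrArg Subtype.val hn).symm⟩
    obtain ⟨a, ha⟩ : ∃ a, orderOf (cu t₀) = p ^ a := by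
      obtain ⟨m, hm⟩ := hY.to_subgroup π.ker t₀
      obtain ⟨a, -, ha⟩ := (Nat.dvd_prime_pow hp.out).1
        (orderOf_dvd_of_pow_eq_one (show cu t₀ ^ p ^ m = 1 by rw [← map_pow, hm, map_one]))
      exact ⟨a, ha⟩
    have ha0 : a ≠ 0 := by
      rintro rfl
      refine hS (Subgroup.eq_bot_iff_forall _ |>.2 ?_)
      rintro _ ⟨t, rfl⟩
      obtain ⟨n, hn⟩ := hgen' t
      rw [hn, orderOf_eq_one_iff.1 (show orderOf (cu t₀) = 1 by rw [ha, pow_zero]), one_pow]
    obtain ⟨α, hα⟩ := hgen' ⟨_, hpow u⟩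
    obtain ⟨β, hβ⟩ := hgen' ⟨_, hpow w⟩
    -- the good line
    obtain ⟨y, hy1, t, ht⟩ : ∃ y, π y ≠ 1 ∧ ∃ t : π.ker, ρ (y ^ p) = (cT t) ^ p • 1 := by
      by_cases hpα : p ∣ α
      · obtain ⟨j, rfl⟩ := hpα
        refine ⟨u, ?_, t₀ ^ j, ?_⟩
        · rw [hu]
          intro h
          exact one_ne_zero (α := ZMod p) (congrArg (fun z => z.toAdd.1) h)
        · rw [hcT ⟨_, hpow u⟩, ← hcu, hα, Units.val_pow_eq_pow_val, hcu, map_pow, ← pow_mul,
            mul_comm j]
      · have hα0 : (α : ZMod p) ≠ 0 := by rwa [Ne, ZMod.natCast_eq_zero_iff]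
        set i := (-(β : ZMod p) / (α : ZMod p)).val
        obtain ⟨j, hj⟩ : p ∣ α * i + β := by
          rw [← ZMod.natCast_eq_zero_iff]
          push_cast
          rw [ZMod.natCast_zmod_val]
          field_simp
          ring
        refine ⟨u ^ i * w, ?_, t₀ ^ j, ?_⟩
        · rw [map_mul, map_pow, hu, hw]
          intro h
          have := congrArg (fun z => z.toAdd.2) h
          simp at this
        · have h1 : B * A ^ i = ζ ^ i • (A ^ i * B) := by
            clear_value i
            clear hj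
            induction i with
            | zero => simp
            | succ i ih =>
              rw [pow_succ, ← mul_assoc, ih, smul_mul_assoc, mul_assoc, hBA, mul_smul_comm,
                smul_smul, ← mul_assoc, pow_succ' ζ, mul_comm ζ]
          obtain ⟨d, hd⟩ := hp.out.dvd_choose_self (k := 2) two_ne_zero
            (lt_of_le_of_ne hp.out.two_le (Ne.symm hp2))
          rw [map_pow, map_mul, map_pow, mul_pow_of_comm_scalar h1, ← pow_mul A, hd, ← pow_mul,
            mul_comm i (p * d), mul_assoc p d, pow_mul ζ, hzp, one_pow, one_smul, mul_comm i p,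
            pow_mul A, ← map_pow ρ u, ← map_pow ρ w, hcT ⟨_, hpow u⟩, hcT ⟨_, hpow w⟩, smul_pow,
            one_pow, smul_mul_smul_comm, one_mul, ← hcu, ← hcu, hα, hβ, Units.val_pow_eq_pow_val,
            Units.val_pow_eq_pow_val, hcu, map_pow cT, ← pow_mul, ← pow_mul, ← pow_add, hj,
            mul_comm j]
    obtain ⟨η, hη⟩ := Module.End.exists_eigenvalue (ρ y)
    obtain ⟨x, hx⟩ := hη.exists_hasEigenvector
    have hηp : η ^ p = cT t ^ p := by
      have h1 := hx.pow_apply p
      rw [← map_pow, ht] at h1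
      exact (smul_left_injective k hx.2 (by simpa using h1)).symm
    have hct0 : cT t ≠ 0 := fun h0 => (cu t).ne_zero ((hcu t).trans h0)
    -- the `p`-th roots of unity are scalars
    have hprim : IsPrimitiveRoot ((cT t₀) ^ p ^ (a - 1)) p := by
      have h1 : IsPrimitiveRoot (cT t₀) (p ^ a) := by
        rw [← hcu, IsPrimitiveRoot.coe_units_iff, ← ha]
        exact IsPrimitiveRoot.orderOf _
      exact h1.pow (pow_pos hp.out.pos a) (by rw [← pow_succ, Nat.sub_add_cancel (Nat.one_le_iff_ne_zero.2 ha0)])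
    obtain ⟨i, -, hi⟩ := hprim.eq_pow_of_pow_eq_one
      (show (η / cT t) ^ p = 1 by rw [div_pow, hηp, div_self (pow_ne_zero _ hct0)])
    set s : π.ker := t * (t₀ ^ p ^ (a - 1)) ^ i
    have hs : cT s = η := by
      simp only [s, map_mul, map_pow, hi]
      rw [mul_comm, div_mul_cancel₀ _ hct0]
    refine ⟨(s : Y)⁻¹ * y, ?_, x, hx.2, hinj (s : Y) ?_⟩
    · rw [map_mul, map_inv, MonoidHom.mem_ker.1 s.2, inv_one, one_mul]
      exact hy1
    · rw [map_mul, Module.End.mul_apply, ← Module.End.mul_apply, ← map_mul, mul_inv_cancel, map_one,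
        Module.End.one_apply, hx.apply_eq_smul, hcT s, hs]
      rfl

/-- Some element outside `T` fixes a nonzero vector. -/
theorem exists_fixed (hp2 : p ≠ 2) (hpk : (p : k) ≠ 0) :
    ∀ (n : ℕ) (Y : Type u) [Group Y] [Finite Y] (_ : IsPGroup p Y)
      (W : Type v) [AddCommGroup W] [Module k W] [FiniteDimensional k W] [Nontrivial W]
      (_ : finrank k W ≤ n) (ρ : Y →* Module.End k W) (π : Y →* Multiplicative (ZMod p × ZMod p))
      (_ : Function.Surjective π) (_ : CentreScalar ρ π.ker),
      ∃ y, π y ≠ 1 ∧ ∃ w : W, w ≠ 0 ∧ ρ y w = w := by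
  classical
  intro n
  induction n with
  | zero => intro Y _ _ _ W _ _ _ _ h; exact absurd h (Nat.not_le.2 Module.finrank_pos)
  | succ n ih =>
  intro Y _ _ hY W _ _ _ _ hn ρ π hπ hcs
  by_cases hall : ∀ t ∈ π.ker, ∃ c : k, ρ t = c • (1 : Module.End k W)
  · exact exists_fixed_of_scalar hp2 hY ρ π hπ hall
  set T := π.ker
  have hcancel : ∀ y : Y, ρ y * ρ y⁻¹ = 1 := fun y => by rw [← map_mul, mul_inv_cancel, map_one]
  let Z₀ : Subgroup Y :=
    { carrier := {t | t ∈ T ∧ ∃ c : k, ρ t = c • (1 : Module.End k W)}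
      one_mem' := ⟨one_mem _, 1, by rw [map_one, one_smul]⟩
      mul_mem' := by
        rintro s t ⟨hs, c, hc⟩ ⟨ht, d, hd⟩
        exact ⟨mul_mem hs ht, c * d, by rw [map_mul, hc, hd, smul_mul_smul_comm, one_mul]⟩
      inv_mem' := by
        rintro s ⟨hs, c, hc⟩
        have h1 : c • ρ s⁻¹ = 1 := by rw [← smul_one_mul, ← hc, hcancel]
        have hc0 : c ≠ 0 := by
          rintro rfl
          rw [zero_smul] at h1
          exact zero_ne_one h1
        exact ⟨inv_mem hs, c⁻¹, by rw [← h1, smul_smul, inv_mul_cancel₀ hc0, one_smul]⟩ }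
  have hZn : Z₀.Normal := ⟨by
    rintro t ⟨ht, c, hc⟩ g
    refine ⟨π.normal_ker.conj_mem t ht g, c, ?_⟩
    rw [map_mul, map_mul, hc, mul_smul_comm, mul_one, smul_mul_assoc, hcancel]⟩
  haveI := hZn
  set q := QuotientGroup.mk' Z₀
  haveI : (T.map q).Normal := Subgroup.Normal.map inferInstance _ (QuotientGroup.mk'_surjective Z₀)
  have hne : T.map q ≠ ⊥ := by
    intro h
    refine hall fun t ht => ?_
    have h1 : q t = 1 := Subgroup.mem_bot.1 (h ▸ Subgroup.mem_map_of_mem q ht)
    exact ((QuotientGroup.eq_one_iff t).1 h1).2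
  have hQ : IsPGroup p (Y ⧸ Z₀) := hY.to_quotient Z₀
  set D := T.map q ⊓ Subgroup.center (Y ⧸ Z₀)
  obtain ⟨m, hm⟩ := IsPGroup.iff_card.1 (hQ.to_subgroup D)
  obtain ⟨⟨z, hzD⟩, hz⟩ := exists_prime_orderOf_dvd_card' (G := D) p (by
    rcases Nat.eq_zero_or_pos m with rfl | h
    · exact absurd (Subgroup.card_eq_one.1 (hm.trans (pow_zero p))) (PGroup.inf_center_ne_bot hQ _ hne)
    · rw [hm]; exact dvd_pow_self p h.ne')
  rw [Subgroup.orderOf_mk] at hz
  obtain ⟨⟨a, haT, rfl⟩, hzc⟩ := Subgroup.mem_inf.1 hzD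
  have haZ : a ∉ Z₀ := fun h => hp.out.ne_one (by
    rw [show q a = 1 from (QuotientGroup.eq_one_iff a).2 h, orderOf_one] at hz; exact hz.symm)
  obtain ⟨-, s, hs⟩ : a ^ p ∈ Z₀ := by
    rw [← QuotientGroup.eq_one_iff]
    show q (a ^ p) = 1
    rw [map_pow, ← hz, pow_orderOf_eq_one]
  have hcom : ∀ g : Y, g * a * g⁻¹ * a⁻¹ ∈ Z₀ := fun g => by
    rw [← QuotientGroup.eq_one_iff]
    show q (g * a * g⁻¹ * a⁻¹) = 1
    rw [map_mul, map_mul, map_mul, map_inv, map_inv,
      Subgroup.mem_center_iff.1 hzc (q g), mul_inv_cancel_right, mul_inv_cancel]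
  choose c hc using fun g => (hcom g).2
  have hrel : ∀ g, ρ g * ρ a = c g • (ρ a * ρ g) := fun g => by
    rw [← map_mul, show g * a = g * a * g⁻¹ * a⁻¹ * (a * g) by group, map_mul, hc, smul_one_mul,
      map_mul]
  have hrel_unique : ∀ g (d : k), ρ g * ρ a = d • (ρ a * ρ g) → c g = d := fun g d h => by
    have h1 := congrArg (· * ρ (a * g)⁻¹) ((hrel g).symm.trans h)
    simp only [smul_mul_assoc, ← map_mul, mul_inv_cancel, map_one] at h1
    exact smul_one_inj h1
  let χ : Y →* k :=
    { toFun := c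
      map_one' := hrel_unique _ _ (by rw [map_one, one_mul, mul_one, one_smul])
      map_mul' := fun g h => hrel_unique _ _ (by
        rw [map_mul, mul_assoc, hrel h, mul_smul_comm, ← mul_assoc, hrel g, smul_mul_assoc, smul_smul,
          mul_assoc, mul_comm (c h)]) }
  have hχrel : ∀ g, ρ g * ρ a = χ g • (ρ a * ρ g) := hrel
  have hs0 : s ≠ 0 := by
    rintro rfl
    rw [zero_smul] at hs
    have := hcancel (a ^ p)
    rw [hs, zero_mul] at this
    exact zero_ne_one this
  have hχp : ∀ g, χ g ^ p = 1 := fun g => by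
    have h1 : ∀ i : ℕ, ρ g * ρ a ^ i = χ g ^ i • (ρ a ^ i * ρ g) := by
      intro i
      induction i with
      | zero => simp
      | succ i ih =>
        rw [pow_succ, ← mul_assoc, ih, smul_mul_assoc, mul_assoc, hχrel, mul_smul_comm, smul_smul,
          ← mul_assoc, pow_succ]
    have h2 := h1 p
    rw [← map_pow ρ a, hs, mul_smul_comm, mul_one, smul_one_mul, smul_smul] at h2
    have h3 := congrArg (· * ρ g⁻¹) h2
    simp only [smul_mul_assoc, hcancel] at h3
    exact mul_right_cancel₀ hs0 ((smul_one_inj h3).symm.trans (one_mul s).symm)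
  obtain ⟨t₀, ht₀, hω⟩ : ∃ t ∈ T, χ t ≠ 1 := by
    by_contra h
    push Not at h
    refine haZ ⟨haT, hcs (ρ a) (Submodule.subset_span ⟨a, haT, rfl⟩) fun t ht => ?_⟩
    rw [hχrel t, h t ht, one_smul]
  set ω := χ t₀
  have hprim : IsPrimitiveRoot ω p :=
    (IsPrimitiveRoot.iff_orderOf).2 (orderOf_eq_prime (hχp t₀) hω)
  -- the eigenspace
  obtain ⟨η, hη⟩ := Module.End.exists_eigenvalue (ρ a)
  set E := Module.End.eigenspace (ρ a) η
  obtain ⟨e₀, he₀⟩ := hη.exists_hasEigenvector
  have hηp : η ^ p = s := by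
    have h1 := he₀.pow_apply p
    rw [← map_pow, hs] at h1
    exact (smul_left_injective k he₀.2 (by simpa using h1)).symm
  have hη0 : η ≠ 0 := by
    rintro rfl
    rw [zero_pow hp.out.ne_zero] at hηp
    exact hs0 hηp.symm
  haveI : Nontrivial E := Submodule.nontrivial_iff_ne_bot.2 hη
  have hEtop : E ≠ ⊤ := by
    intro h
    refine haZ ⟨haT, η, LinearMap.ext fun x => ?_⟩
    exact Module.End.mem_eigenspace_iff.1 (h ▸ Submodule.mem_top : x ∈ E)
  let Y₁ : Subgroup Y := χ.ker
  have hinv : ∀ g : Y, χ g = 1 → ∀ x ∈ E, ρ g x ∈ E := by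
    intro g hg x hx
    rw [Module.End.mem_eigenspace_iff] at hx ⊢
    have h1 := LinearMap.congr_fun (hχrel g) x
    rw [hg, one_smul, Module.End.mul_apply, Module.End.mul_apply, hx, map_smul] at h1
    exact h1.symm
  let ρ₁ : Y₁ →* Module.End k E :=
    { toFun := fun g => (ρ g).restrict (hinv g g.2)
      map_one' := by ext x; simp
      map_mul' := fun g h => by ext x; simp }
  let π₁ : Y₁ →* Multiplicative (ZMod p × ZMod p) := π.comp Y₁.subtype
  have hπ₁ : Function.Surjective π₁ := by
    intro z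
    obtain ⟨g, rfl⟩ := hπ z
    obtain ⟨j, -, hj⟩ := hprim.eq_pow_of_pow_eq_one (hχp g)
    refine ⟨⟨g * t₀ ^ ((p - 1) * j), ?_⟩, ?_⟩
    · show χ _ = 1
      rw [map_mul, map_pow, ← hj, ← pow_add,
        show j + (p - 1) * j = p * j by
          rw [add_comm, ← Nat.succ_mul, Nat.succ_eq_add_one, Nat.sub_add_cancel hp.out.one_le],
        pow_mul, hprim.pow_eq_one, one_pow]
    · show π (g * t₀ ^ _) = π g
      rw [map_mul, map_pow, MonoidHom.mem_ker.1 ht₀, one_pow, mul_one]
  have hcs₁ : CentreScalar ρ₁ π₁.ker := by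
    intro X hX hXc
    set SpT := Submodule.span k (ρ '' (T : Set Y))
    set M₀ : Set Y := {y | y ∈ T ∧ χ y = 1}
    have hlift : ∀ X ∈ Submodule.span k (ρ₁ '' (π₁.ker : Set Y₁)),
        ∃ X' ∈ Submodule.span k (ρ '' M₀), ∀ e : E, (X e : W) = X' e := by
      intro X hX
      induction hX using Submodule.span_induction with
      | mem x hx =>
        obtain ⟨g, hg, rfl⟩ := hx
        exact ⟨ρ g, Submodule.subset_span ⟨g, ⟨hg, g.2⟩, rfl⟩, fun e => rfl⟩
      | zero => exact ⟨0, zero_mem _, fun e => rfl⟩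
      | add x y _ _ ihx ihy =>
        obtain ⟨x', hx', ex⟩ := ihx
        obtain ⟨y', hy', ey⟩ := ihy
        exact ⟨x' + y', add_mem hx' hy', fun e => by simp [ex e, ey e]⟩
      | smul r x _ ihx =>
        obtain ⟨x', hx', ex⟩ := ihx
        exact ⟨r • x', Submodule.smul_mem _ r hx', fun e => by simp [ex e]⟩
    obtain ⟨X', hX', hXX'⟩ := hlift X hX
    have hmulT : ∀ A ∈ SpT, ∀ B ∈ SpT, A * B ∈ SpT := by
      intro A hA B hB
      induction hA using Submodule.span_induction with
      | mem x hx =>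
        obtain ⟨g, hg, rfl⟩ := hx
        induction hB using Submodule.span_induction with
        | mem y hy =>
          obtain ⟨h, hh, rfl⟩ := hy
          rw [← map_mul]
          exact Submodule.subset_span ⟨g * h, mul_mem hg hh, rfl⟩
        | zero => rw [mul_zero]; exact zero_mem _
        | add y z _ _ ihy ihz => rw [mul_add]; exact add_mem ihy ihz
        | smul r y _ ihy => rw [mul_smul_comm]; exact Submodule.smul_mem _ r ihy
      | zero => rw [zero_mul]; exact zero_mem _
      | add y z _ _ ihy ihz => rw [add_mul]; exact add_mem ihy ihz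
      | smul r y _ ihy => rw [smul_mul_assoc]; exact Submodule.smul_mem _ r ihy
    have hρmem : ∀ t ∈ T, ρ t ∈ SpT := fun t ht => Submodule.subset_span ⟨t, ht, rfl⟩
    -- the projection onto the eigenspace
    set B := η⁻¹ • ρ a with hB
    set P := (p : k)⁻¹ • ∑ i ∈ Finset.range p, B ^ i with hP
    have hBp : B ^ p = 1 := by
      rw [hB, smul_pow, ← map_pow, hs, smul_smul, ← hηp, inv_pow,
        inv_mul_cancel₀ (pow_ne_zero _ hη0), one_smul]
    have hBP : B * P = P := by
      rw [hP, mul_smul_comm]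
      congr 1
      rw [Finset.mul_sum, Finset.sum_congr rfl fun i _ => (pow_succ' B i).symm]
      have h1 := Finset.sum_range_succ' (fun i => B ^ i) p
      rw [Finset.sum_range_succ, hBp, pow_zero] at h1
      exact (add_right_cancel h1).symm
    have hPE : ∀ x, P x ∈ E := fun x => by
      rw [Module.End.mem_eigenspace_iff]
      have h1 := LinearMap.congr_fun hBP x
      rw [Module.End.mul_apply, hB, LinearMap.smul_apply] at h1
      conv_rhs => rw [← h1, smul_smul, mul_inv_cancel₀ hη0, one_smul]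
    have hPapply : ∀ (x : W) (l : k), ρ a x = l • x →
        P x = (p : k)⁻¹ • (∑ i ∈ Finset.range p, (η⁻¹ * l) ^ i) • x := by
      intro x l hl
      have h1 : ∀ i : ℕ, (B ^ i) x = (η⁻¹ * l) ^ i • x := by
        intro i
        induction i with
        | zero => simp
        | succ i ih =>
          rw [pow_succ', Module.End.mul_apply, ih, map_smul, hB, LinearMap.smul_apply, hl, smul_smul,
            smul_smul]
          congr 1
          ring
      rw [hP, LinearMap.smul_apply, LinearMap.sum_apply, Finset.sum_congr rfl fun i _ => h1 i,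
        Finset.sum_smul]
    have hPfix : ∀ e : E, P (e : W) = e := fun e => by
      rw [hPapply _ η (Module.End.mem_eigenspace_iff.1 e.2), inv_mul_cancel₀ hη0]
      simp [smul_smul, inv_mul_cancel₀ hpk, ← Nat.cast_smul_eq_nsmul k]
    have hPspan : P ∈ SpT := by
      refine Submodule.smul_mem _ _ (Submodule.sum_mem _ fun i _ => ?_)
      rw [hB, smul_pow, ← map_pow]
      exact Submodule.smul_mem _ _ (hρmem _ (pow_mem haT i))
    have hPcomm : ∀ g, χ g = 1 → P * ρ g = ρ g * P := by
      intro g hg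
      have h1 : Commute B (ρ g) := by
        show B * ρ g = ρ g * B
        rw [hB, smul_mul_assoc, mul_smul_comm, hχrel g, hg, one_smul]
      have h2 : Commute (∑ i ∈ Finset.range p, B ^ i) (ρ g) :=
        Commute.sum_left _ _ _ fun i _ => h1.pow_left i
      rw [hP, smul_mul_assoc, mul_smul_comm, h2.eq]
    set Q := X' * P
    have hQspan : Q ∈ SpT :=
      hmulT _ (Submodule.span_mono (Set.image_mono fun y hy => hy.1) hX') _ hPspan
    have hQcomm : ∀ g ∈ M₀, Q * ρ g = ρ g * Q := by
      intro g hg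
      refine LinearMap.ext fun x => ?_
      have hc' := LinearMap.congr_fun
        (hXc ⟨g, hg.2⟩ (MonoidHom.mem_ker.2 (MonoidHom.mem_ker.1 hg.1))) ⟨P x, hPE x⟩
      have hc'' := congrArg (fun e : E => (e : W)) hc'
      simp only [Module.End.mul_apply] at hc''
      rw [hXX'] at hc''
      show X' (P (ρ g x)) = ρ g (X' (P x))
      rw [← Module.End.mul_apply P (ρ g), hPcomm g hg.2, Module.End.mul_apply]
      refine hc''.trans ?_
      show ρ g ((X ⟨P x, hPE x⟩ : E) : W) = _
      rw [hXX']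
    set f : ℕ → Module.End k W := fun j => ρ (t₀ ^ j) * Q * ρ (t₀ ^ j)⁻¹ with hf
    set Z := ∑ j ∈ Finset.range p, f j
    have hZspan : Z ∈ SpT := Submodule.sum_mem _ fun j _ =>
      hmulT _ (hmulT _ (hρmem _ (pow_mem ht₀ j)) _ hQspan) _ (hρmem _ (inv_mem (pow_mem ht₀ j)))
    have hZM : ∀ g ∈ M₀, Z * ρ g = ρ g * Z := by
      intro g hg
      rw [Finset.sum_mul, Finset.mul_sum]
      refine Finset.sum_congr rfl fun j _ => ?_
      have hg' : (t₀ ^ j)⁻¹ * g * t₀ ^ j ∈ M₀ := ⟨mul_mem (mul_mem (inv_mem (pow_mem ht₀ j)) hg.1)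
        (pow_mem ht₀ j), by
          rw [map_mul, map_mul, hg.2, mul_one, ← map_mul, inv_mul_cancel, map_one]⟩
      calc ρ (t₀ ^ j) * Q * ρ (t₀ ^ j)⁻¹ * ρ g
          = ρ (t₀ ^ j) * (Q * ρ ((t₀ ^ j)⁻¹ * g * t₀ ^ j)) * ρ (t₀ ^ j)⁻¹ := by
            simp only [mul_assoc, ← map_mul]
            congr 2
            congr 1
            group
        _ = ρ (t₀ ^ j) * ρ ((t₀ ^ j)⁻¹ * g * t₀ ^ j) * Q * ρ (t₀ ^ j)⁻¹ := by
            rw [hQcomm _ hg']; simp only [mul_assoc]
        _ = ρ g * (ρ (t₀ ^ j) * Q * ρ (t₀ ^ j)⁻¹) := by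
            rw [← map_mul, show t₀ ^ j * ((t₀ ^ j)⁻¹ * g * t₀ ^ j) = g * t₀ ^ j by group, map_mul]
            simp only [mul_assoc]
    have hZt : ρ t₀ * Z = Z * ρ t₀ := by
      rw [Finset.mul_sum, Finset.sum_mul]
      have h1 : ∀ j, ρ t₀ * f j = f (j + 1) * ρ t₀ := fun j => by
        simp only [hf, mul_assoc, ← map_mul]
        rw [← mul_assoc (ρ t₀), ← map_mul, ← pow_succ']
        congr 3
        rw [pow_succ', mul_inv_rev]
        group
      rw [Finset.sum_congr rfl fun j _ => h1 j, ← Finset.sum_mul, ← Finset.sum_mul]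
      congr 1
      have h2 := Finset.sum_range_succ' f p
      have h3 : f p = f 0 := by
        have hp' : t₀ ^ p ∈ M₀ := ⟨pow_mem ht₀ p, by rw [map_pow, hprim.pow_eq_one]⟩
        simp only [hf, pow_zero, inv_one, map_one, mul_one, one_mul]
        rw [← hQcomm _ hp', mul_assoc, hcancel, mul_one]
      rw [Finset.sum_range_succ, h3] at h2
      exact (add_right_cancel h2).symm
    obtain ⟨l, hl⟩ := hcs Z hZspan fun t ht => by
      obtain ⟨j, -, hj⟩ := hprim.eq_pow_of_pow_eq_one (hχp t)
      have hm : (t₀ ^ j)⁻¹ * t ∈ M₀ := ⟨mul_mem (inv_mem (pow_mem ht₀ j)) ht, by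
        rw [map_mul, ← hj, ← map_pow, ← map_mul, inv_mul_cancel, map_one]⟩
      have hcj : Commute Z (ρ t₀ ^ j) := (show Commute Z (ρ t₀) from hZt.symm).pow_right j
      calc Z * ρ t = Z * ρ t₀ ^ j * ρ ((t₀ ^ j)⁻¹ * t) := by
            rw [mul_assoc, ← map_pow, ← map_mul, mul_inv_cancel_left]
        _ = ρ t₀ ^ j * ρ ((t₀ ^ j)⁻¹ * t) * Z := by
            rw [hcj.eq, mul_assoc, hZM _ hm, ← mul_assoc]
        _ = ρ t * Z := by rw [← map_pow, ← map_mul, mul_inv_cancel_left]
    refine ⟨l, LinearMap.ext fun e => Subtype.ext ?_⟩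
    have h1 := LinearMap.congr_fun hl (e : W)
    rw [LinearMap.sum_apply, Finset.sum_eq_single 0] at h1
    · simp only [hf, Q, pow_zero, inv_one, map_one, mul_one, one_mul, Module.End.mul_apply, hPfix] at h1
      show (X e : W) = _
      rw [hXX', h1]
      rfl
    · intro j hjp hj0
      have hw : ρ a (ρ (t₀ ^ j)⁻¹ (e : W)) = (ω ^ j * η) • ρ (t₀ ^ j)⁻¹ (e : W) := by
        refine Function.LeftInverse.injective (g := ρ (t₀ ^ j)⁻¹) (f := ρ (t₀ ^ j)) (fun x => by
          rw [← Module.End.mul_apply, ← map_mul, inv_mul_cancel, map_one, Module.End.one_apply]) ?_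
        rw [map_smul, ← Module.End.mul_apply, hχrel, LinearMap.smul_apply, Module.End.mul_apply,
          ← Module.End.mul_apply (ρ (t₀ ^ j)) (ρ (t₀ ^ j)⁻¹), hcancel, Module.End.one_apply,
          Module.End.mem_eigenspace_iff.1 e.2, smul_smul, map_pow]
      have hne1 : ω ^ j ≠ 1 := hprim.pow_ne_one_of_pos_of_lt hj0 (Finset.mem_range.1 hjp)
      have hP0 : P (ρ (t₀ ^ j)⁻¹ (e : W)) = 0 := by
        rw [hPapply _ _ hw, show η⁻¹ * (ω ^ j * η) = ω ^ j by field_simp]
        have : (∑ i ∈ Finset.range p, (ω ^ j) ^ i) = 0 := by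
          rw [geom_sum_eq hne1, ← pow_mul, mul_comm, pow_mul, hprim.pow_eq_one, one_pow, sub_self,
            zero_div]
        rw [this, zero_smul, smul_zero]
      simp only [hf, Q, Module.End.mul_apply, hP0, map_zero]
    · intro h
      exact absurd (Finset.mem_range.2 hp.out.pos) h
  obtain ⟨y, hy, x, hx, hfix⟩ := ih Y₁ (hY.to_subgroup Y₁) E (by
    have := Submodule.finrank_lt hEtop
    omega) ρ₁ π₁ hπ₁ hcs₁
  exact ⟨y, hy, x, fun h => hx (Subtype.ext h), congrArg Subtype.val hfix⟩

end Cfsg.Agent.Camina
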