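import Cfsg.Agent.Lib.FullyRam.Basic
import Cfsg.Agent.Lib.Char.Linear
import Cfsg.Agent.Lib.PGroup.Basic
import Cfsg.Agent.Lib.Blocks.CentralChar
import Mathlib.NumberTheory.LegendreSymbol.AddCharacter
import Mathlib.Analysis.SpecialFunctions.Complex.CircleAddChar

/-!
# Inertia groups in a Camina pair of `p`-groups

`T ⊴ P`, `P` a `p`-group, and every `x ∉ T` is conjugate to all of `x T`.

* `card_twistFixed_le`: for `B ⊴ P` and `v` conjugate to all of `B v`, at most `|C_B(v)|` irreducible
  characters `ψ` of `B` satisfy `ψ^v = F ψ` for a given linear character `F`.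
* `inertia_not_le`: no irreducible character of a normal subgroup inside `T` has its inertia group
  inside `T`.
* `apply_eq_zero_of_not_mem`: the characters without trivial constituent on `T` vanish off `T`.
* `not_isCyclic_inertia`: for a nontrivial `θ ∈ Irr T` the quotient of the inertia group by `T` is
  not cyclic.
-/

set_option autoImplicit false
set_option linter.style.haveILetI false
set_option linter.unusedSectionVars false

namespace Cfsg.Agent.Camina

open Cfsg Subgroup
open scoped ComplexConjugate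

universe u

variable {P : Type u} [Group P] [Finite P]

/-- Two characters with a common constituent are not orthogonal. -/
theorem classInner_ne_zero_of_common {N : Type u} [Group N] [Fintype N] {A A' : N → ℂ}
    (hA : IsCharacter N A) (hA' : IsCharacter N A') (θ : IrrCharacter N)
    (h : classInner A θ.1 ≠ 0) (h' : classInner A' θ.1 ≠ 0) : classInner A A' ≠ 0 := by
  classical
  obtain ⟨m, hm, hm'⟩ := Char.IsCharacter.exists_decomp hA
  obtain ⟨n, -, hn'⟩ := Char.IsCharacter.exists_decomp hA'
  have e : classInner A A' = ((∑ ψ, m ψ * n ψ : ℕ) : ℂ) := by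
    conv_lhs => rw [hm]
    rw [Char.classInner_sum_left]
    push_cast
    refine Finset.sum_congr rfl fun ψ _ => ?_
    rw [Char.classInner_smul_left, ← Char.conj_classInner, hn', Complex.conj_natCast]
  rw [e, Nat.cast_ne_zero]
  intro h0
  have := (Finset.sum_eq_zero_iff.1 h0) θ (Finset.mem_univ _)
  rcases Nat.mul_eq_zero.1 this with e0 | e0
  · exact h (by rw [hm', e0, Nat.cast_zero])
  · exact h' (by rw [hn', e0, Nat.cast_zero])

/-- The count of twisted fixed characters: Schur orthogonality and a count of commuting pairs. -/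
theorem card_twistFixed_le (B : Subgroup P) [B.Normal] (v : P) (F : B →* ℂ)
    (hconj : ∀ c ∈ B, ∃ g, g * v * g⁻¹ = c * v) :
    Nat.card {ψ : IrrCharacter B // Char.conjFun B ψ.1 v = ⇑F * ψ.1} ≤
      Nat.card ↥(B ⊓ centralizer ({v} : Set P)) := by
  classical
  haveI := Fintype.ofFinite B
  let w : B → B := fun b => MulAut.conjNormal v b
  let a : B → ℕ := fun b =>
    if IsConj (w b) b then Nat.card (centralizer ({b} : Set B)) else 0
  let S := Nat.card {ψ : IrrCharacter B // Char.conjFun B ψ.1 v = ⇑F * ψ.1}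
  let C := Nat.card ↥(B ⊓ centralizer ({v} : Set P))
  have ht : ∀ ψ : IrrCharacter B, classInner (Char.conjFun B ψ.1 v) (⇑F * ψ.1) =
      if Char.conjFun B ψ.1 v = ⇑F * ψ.1 then 1 else 0 := by
    intro ψ
    split_ifs with h
    · rw [h]; exact Char.classInner_irr_self (Char.IsIrrCharacter.mul_linear ψ.2 F)
    · exact Char.classInner_irr_of_ne (Char.isIrrCharacter_conjFun B ψ.2 v)
        (Char.IsIrrCharacter.mul_linear ψ.2 F) h
  have hS : (S : ℂ) * Nat.card B = ∑ b : B, conj (F b) * (a b : ℂ) := by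
    have e1 : (S : ℂ) = ∑ ψ : IrrCharacter B, classInner (Char.conjFun B ψ.1 v) (⇑F * ψ.1) := by
      rw [Finset.sum_congr rfl fun ψ _ => ht ψ, Finset.sum_boole]
      simp only [S, Nat.card_eq_fintype_card, Fintype.card_subtype]
    rw [e1]
    simp only [classInner, ← Finset.mul_sum]
    rw [Finset.sum_comm, mul_comm, ← mul_assoc, mul_inv_cancel₀ Char.card_ne_zero, one_mul]
    refine Finset.sum_congr rfl fun b _ => ?_
    have e2 : ∀ ψ : IrrCharacter B, Char.conjFun B ψ.1 v b * conj ((⇑F * ψ.1) b) =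
        conj (F b) * (ψ.1 (w b) * conj (ψ.1 b)) := fun ψ => by
      simp only [Pi.mul_apply, map_mul, Char.conjFun, w]
      ring
    rw [Finset.sum_congr rfl fun ψ _ => e2 ψ, ← Finset.mul_sum, Char.sum_irr_mul_conj]
    simp only [a]
    split_ifs <;> simp
  have hle : S * Nat.card B ≤ ∑ b : B, a b := by
    have hF : ∀ b, ‖F b‖ = 1 := fun b => by
      have h1 := congrArg (fun z : ℂ => ‖z‖) (Char.normSq_linear F b)
      simp only [norm_mul, Complex.norm_conj, norm_one] at h1
      exact (mul_self_eq_one_iff.1 h1).resolve_right (by linarith [norm_nonneg (F b)])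
    have h1 : ((S * Nat.card B : ℕ) : ℝ) = ‖∑ b : B, conj (F b) * (a b : ℂ)‖ := by
      rw [← hS, ← Nat.cast_mul, Complex.norm_natCast]
    have h2 : ((S * Nat.card B : ℕ) : ℝ) ≤ ((∑ b : B, a b : ℕ) : ℝ) := by
      rw [h1, Nat.cast_sum]
      refine (norm_sum_le _ _).trans_eq (Finset.sum_congr rfl fun b _ => ?_)
      rw [norm_mul, Complex.norm_conj, hF, one_mul, Complex.norm_natCast]
    exact_mod_cast h2
  have ha : ∀ b : B, a b ≤ Nat.card {c : B // c * w b * c⁻¹ = b} := by
    intro b
    simp only [a]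
    split_ifs with h
    · obtain ⟨c₀, hc₀⟩ := isConj_iff.1 h
      refine Nat.card_le_card_of_injective (fun d => ⟨(d : B) * c₀, ?_⟩) fun d d' e => ?_
      · have hd : (d : B) * b = b * d := mem_centralizer_singleton_iff.1 d.2
        calc (d : B) * c₀ * w b * ((d : B) * c₀)⁻¹ = (d : B) * (c₀ * w b * c₀⁻¹) * (d : B)⁻¹ := by
              group
          _ = b := by rw [hc₀, hd, mul_inv_cancel_right]
      · exact Subtype.ext (mul_right_cancel (congrArg Subtype.val e))
    · exact Nat.zero_le _
  have hc : ∀ c : B, Nat.card {b : B // c * w b * c⁻¹ = b} ≤ C := by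
    intro c
    obtain ⟨g, hg⟩ := hconj c c.2
    refine Nat.card_le_card_of_injective
      (fun b => (⟨g⁻¹ * (b.1 : P) * g, mem_inf.2 ⟨?_, ?_⟩⟩ : ↥(B ⊓ centralizer ({v} : Set P))))
      fun b b' e => ?_
    · simpa using (inferInstance : B.Normal).conj_mem _ b.1.2 g⁻¹
    · rw [mem_centralizer_singleton_iff]
      have hb : (c : P) * (v * (b.1 : P) * v⁻¹) * (c : P)⁻¹ = b.1 := by
        have := congrArg (fun z : B => (z : P)) b.2
        simpa [w] using this
      have hb' : (c : P) * v * (b.1 : P) = b.1 * ((c : P) * v) := by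
        conv_rhs => rw [← hb]
        group
      have hv : v = g⁻¹ * ((c : P) * v) * g := by rw [← hg]; group
      calc g⁻¹ * (b.1 : P) * g * v
          = g⁻¹ * (b.1 : P) * g * (g⁻¹ * ((c : P) * v) * g) := by rw [← hv]
        _ = g⁻¹ * ((b.1 : P) * ((c : P) * v)) * g := by group
        _ = g⁻¹ * ((c : P) * v * (b.1 : P)) * g := by rw [hb']
        _ = g⁻¹ * ((c : P) * v) * g * (g⁻¹ * (b.1 : P) * g) := by group
        _ = v * (g⁻¹ * (b.1 : P) * g) := by rw [← hv]
    · exact Subtype.ext (Subtype.ext (mul_left_cancel (mul_right_cancel (congrArg Subtype.val e))))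
  have hpairs : ∑ b : B, Nat.card {c : B // c * w b * c⁻¹ = b} =
      ∑ c : B, Nat.card {b : B // c * w b * c⁻¹ = b} := by
    simp only [Nat.card_eq_fintype_card, Fintype.card_subtype, Finset.card_filter]
    exact Finset.sum_comm
  have hbound : ∑ b : B, a b ≤ Nat.card B * C := by
    refine (Finset.sum_le_sum fun b _ => ha b).trans ?_
    rw [hpairs]
    refine (Finset.sum_le_sum fun c _ => hc c).trans_eq ?_
    rw [Finset.sum_const, smul_eq_mul, Finset.card_univ, Nat.card_eq_fintype_card]
  exact Nat.le_of_mul_le_mul_right ((hle.trans hbound).trans_eq (mul_comm _ _)) Nat.card_pos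

variable {p : ℕ} [hp : Fact p.Prime]

/-- The linear characters of the layer `B / B'` separate the characters over a fixed `φ'`. -/
theorem exists_twist (hP : IsPGroup p P) (B B' : Subgroup P) [B.Normal] [B'.Normal] [Fintype B]
    [Fintype B'] (hle : B' ≤ B) (hidx : B'.relIndex B = p) (φ : IrrCharacter B)
    (φ' : IrrCharacter B') (h : classInner (Char.resIncl B' hle φ.1) φ'.1 ≠ 0) (v : P)
    (hv : Char.conjFun B' φ'.1 v = φ'.1) :
    ∃ F : B →* ℂ, (∀ (g : P) (b : B), F (MulAut.conjNormal g b) = F b) ∧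
      Char.conjFun B φ.1 v = ⇑F * φ.1 := by
  classical
  haveI : NeZero p := ⟨hp.out.ne_zero⟩
  haveI : (B'.subgroupOf B).Normal := inferInstance
  have hQ : Nat.card (B ⧸ B'.subgroupOf B) = p := hidx
  have hZc : Nat.card (Multiplicative (ZMod p)) = p := by
    rw [Nat.card_congr Multiplicative.toAdd, Nat.card_zmod]
  let e : B →* Multiplicative (ZMod p) :=
    (mulEquivOfPrimeCardEq hQ hZc).toMonoidHom.comp (QuotientGroup.mk' _)
  have he : ∀ b : B, e b = 1 ↔ (b : P) ∈ B' := fun b => by
    show (mulEquivOfPrimeCardEq hQ hZc) (QuotientGroup.mk' _ b) = 1 ↔ _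
    rw [EmbeddingLike.map_eq_one_iff, QuotientGroup.mk'_apply, QuotientGroup.eq_one_iff,
      mem_subgroupOf]
  have hcen : ∀ (g : P) (b : B), (g * b * g⁻¹ : P)⁻¹ * b ∈ B' := by
    intro g b
    haveI : (B.map (QuotientGroup.mk' B')).Normal :=
      Normal.map inferInstance _ (QuotientGroup.mk'_surjective B')
    have hc : Nat.card ↥(B.map (QuotientGroup.mk' B')) = p := by
      rw [← relIndex_ker, QuotientGroup.ker_mk', hidx]
    have h1 := mem_center_iff.1 (PGroup.le_center_of_card_eq (hP.to_quotient B') _ hc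
      (mem_map_of_mem (QuotientGroup.mk' B') b.2)) (QuotientGroup.mk' B' g)
    rw [← map_mul, ← map_mul, QuotientGroup.mk'_apply, QuotientGroup.mk'_apply,
      QuotientGroup.eq] at h1
    have h2 := (inferInstance : B'.Normal).conj_mem _ h1 g
    convert h2 using 1
    group
  let F : ZMod p → (B →* ℂ) := fun j =>
    (AddChar.mulShift (ZMod.stdAddChar (N := p)) j).toMonoidHom.comp e
  have hFval : ∀ (j : ZMod p) (b : B), F j b = ZMod.stdAddChar (j * (e b).toAdd) := fun j b => rfl
  have hFinv : ∀ (j : ZMod p) (g : P) (b : B), F j (MulAut.conjNormal g b) = F j b := by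
    intro j g b
    have : e (MulAut.conjNormal g b) = e b := by
      rw [← inv_mul_eq_one, ← map_inv, ← map_mul, he]
      simpa [mul_assoc] using hcen g b
    simp only [hFval, this]
  have hFsum : ∀ b : B, ∑ j, F j b = if (b : P) ∈ B' then (p : ℂ) else 0 := by
    intro b
    simp only [hFval]
    rw [AddChar.sum_mulShift _ (ZMod.isPrimitive_stdAddChar p), ZMod.card]
    by_cases hb : (b : P) ∈ B'
    · rw [if_pos hb, if_pos (by rw [(he b).2 hb]; rfl)]
    · rw [if_neg hb, if_neg (fun h0 => hb ((he b).1 (by simpa using h0))), Nat.cast_zero]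
  set ψ : IrrCharacter B := Char.conjChar B φ v
  have hne : classInner (Char.resIncl B' hle ψ.1) (Char.resIncl B' hle φ.1) ≠ 0 := by
    refine classInner_ne_zero_of_common
      (Char.IsCharacter.comp (Char.irr_isCharacter ψ) (inclusion hle))
      (Char.IsCharacter.comp (Char.irr_isCharacter φ) (inclusion hle)) φ' ?_ h
    have e1 : Char.resIncl B' hle ψ.1 = Char.conjFun B' (Char.resIncl B' hle φ.1) v :=
      funext fun n => congrArg φ.1 (Subtype.ext (by simp))
    rw [e1, ← hv, Char.classInner_conjFun]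
    exact h
  have hsum : ∑ j, classInner ψ.1 (⇑(F j) * φ.1) =
      classInner (Char.resIncl B' hle ψ.1) (Char.resIncl B' hle φ.1) := by
    have hcard : (Nat.card B : ℂ) = (p : ℂ) * Nat.card B' := by
      have h1 := Subgroup.card_mul_index (B'.subgroupOf B)
      rw [Nat.card_congr (subgroupOfEquivOfLe hle).toEquiv,
        show (B'.subgroupOf B).index = p from hidx] at h1
      rw [← h1, Nat.cast_mul, mul_comm]
    simp only [classInner, ← Finset.mul_sum]
    rw [Finset.sum_comm]
    have e2 : ∀ b : B, ∑ j, ψ.1 b * conj ((⇑(F j) * φ.1) b) =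
        (if (b : P) ∈ B' then (p : ℂ) * (ψ.1 b * conj (φ.1 b)) else 0) := fun b => by
      simp only [Pi.mul_apply, map_mul]
      rw [Finset.sum_congr rfl fun j _ => (show ψ.1 b * (conj (F j b) * conj (φ.1 b)) =
        conj (F j b) * (ψ.1 b * conj (φ.1 b)) by ring), ← Finset.sum_mul, ← map_sum, hFsum]
      split_ifs <;> simp
    rw [Finset.sum_congr rfl fun b _ => e2 b, ← Finset.sum_filter,
      Finset.sum_subtype (Finset.univ.filter fun b : B => (b : P) ∈ B')
        (p := fun b : B => (b : P) ∈ B') (by simp),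
      ← Finset.mul_sum, hcard, mul_inv, ← mul_assoc, mul_assoc ((p : ℂ)⁻¹),
      mul_comm _ (p : ℂ), ← mul_assoc ((p : ℂ)⁻¹), inv_mul_cancel₀ (Nat.cast_ne_zero.2 hp.out.ne_zero),
      one_mul]
    congr 1
    refine Fintype.sum_equiv
      { toFun := fun b => ⟨(b.1 : P), b.2⟩
        invFun := fun n => ⟨inclusion hle n, n.2⟩
        left_inv := fun b => Subtype.ext (Subtype.ext rfl)
        right_inv := fun n => Subtype.ext rfl } _ _ fun b => rfl
  obtain ⟨j, -, hj⟩ := Finset.exists_ne_zero_of_sum_ne_zero (hsum.symm ▸ hne)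
  refine ⟨F j, hFinv j, ?_⟩
  by_contra hne'
  exact hj (Char.classInner_irr_of_ne ψ.2 (Char.IsIrrCharacter.mul_linear φ.2 (F j)) hne')

variable (T : Subgroup P) [T.Normal]

/-- In a Camina pair of `p`-groups no character inertia group lies inside `T`. -/
theorem inertia_not_le (hP : IsPGroup p P) (hT : T ≠ ⊤)
    (hcam : ∀ x ∉ T, ∀ t ∈ T, ∃ g, g * x * g⁻¹ = x * t) :
    ∀ (B : Subgroup P) [B.Normal], B ≤ T → ∀ φ : IrrCharacter B, ¬ Char.inertia B φ.1 ≤ T := by
  classical
  suffices H : ∀ (n : ℕ) (B : Subgroup P) [B.Normal], Nat.card B ≤ n → B ≤ T →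
      ∀ φ : IrrCharacter B, ¬ Char.inertia B φ.1 ≤ T from fun B _ => H _ B le_rfl
  intro n
  induction n with
  | zero => intro B _ h; exact absurd h (Nat.not_le.2 Nat.card_pos)
  | succ n ih =>
    intro B _ hn hBT φ hle
    obtain ⟨k, hk⟩ := IsPGroup.iff_card.1 (hP.to_subgroup B)
    rcases k with _ | k
    · refine hT (eq_top_iff.2 fun g _ => hle ?_)
      haveI : Subsingleton B := (Nat.card_eq_one_iff_unique.1 (by rw [hk, pow_zero])).1
      exact (Char.mem_inertia B).2 (funext fun b => congrArg φ.1 (Subsingleton.elim _ _))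
    obtain ⟨B', hB'n, -, hB'B, hB'c⟩ := PGroup.exists_normal_card_between hP ⊥ B bot_le k
      (by rw [Subgroup.card_bot]; exact Nat.one_le_pow _ _ hp.out.pos)
      (by rw [hk]; exact Nat.pow_le_pow_right hp.out.pos k.le_succ)
    haveI := hB'n
    haveI := Fintype.ofFinite B
    haveI := Fintype.ofFinite B'
    have hidx : B'.relIndex B = p := by
      have h1 := relIndex_mul_relIndex ⊥ B' B bot_le hB'B
      rw [relIndex_bot_left, relIndex_bot_left, hB'c, hk, pow_succ] at h1
      exact Nat.eq_of_mul_eq_mul_left (pow_pos hp.out.pos k) h1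
    obtain ⟨φ', hφ'⟩ : ∃ φ' : IrrCharacter B',
        classInner (Char.resIncl B' hB'B φ.1) φ'.1 ≠ 0 := by
      by_contra h
      push Not at h
      have h0 := Char.eq_zero_of_classInner_irr (Char.IsCharacter.isClassFunction
        (Char.IsCharacter.comp (Char.irr_isCharacter φ) (inclusion hB'B))) h
      exact Char.IsIrrCharacter.apply_one_ne_zero φ.2 (by simpa using congrFun h0 1)
    have hlt : Nat.card B' ≤ n := by
      have : Nat.card B' < Nat.card B := by
        rw [hB'c, hk]; exact Nat.pow_lt_pow_right hp.out.one_lt k.lt_succ_self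
      omega
    obtain ⟨v, hv, hvT⟩ := SetLike.not_le_iff_exists.1 (ih B' hlt (hB'B.trans hBT) φ')
    obtain ⟨F, hFinv, hF⟩ := exists_twist hP B B' hB'B hidx φ φ' hφ' v hv
    set I := Char.inertia B φ.1
    -- conjugates of `v` inside `I v`
    have hconjI : ∀ h : I, ∃ g, g * v * g⁻¹ = (h : P) * v := by
      intro h
      obtain ⟨g, hg⟩ := hcam v hvT (v⁻¹ * h * v)
        (by simpa using (inferInstance : T.Normal).conj_mem _ (hle h.2) v⁻¹)
      exact ⟨g, by rw [hg]; group⟩
    choose g hg using hconjI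
    set C := centralizer ({v} : Set P)
    have hgc : ∀ (h : I) (c : C), g h * c * v * (g h * c)⁻¹ = (h : P) * v := fun h c => by
      have hc : (c : P) * v = v * c := mem_centralizer_singleton_iff.1 c.2
      calc g h * c * v * (g h * c)⁻¹ = g h * ((c : P) * v) * (c : P)⁻¹ * (g h)⁻¹ := by group
        _ = g h * v * (g h)⁻¹ := by rw [hc]; group
        _ = _ := hg h
    let S := {ψ : IrrCharacter B // Char.conjFun B ψ.1 v = ⇑F * ψ.1}
    have hmem : ∀ (h : I) (c : C),
        Char.conjFun B (Char.conjChar B φ (g h * c)).1 v = ⇑F * (Char.conjChar B φ (g h * c)).1 := by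
      intro h c
      show Char.conjFun B (Char.conjFun B φ.1 _) v = _
      rw [← Char.conjFun_mul, show g h * c * v = (h : P) * v * (g h * c) by rw [← hgc h c]; group,
        Char.conjFun_mul B φ.1 ((h : P) * v) (g h * c), Char.conjFun_mul B φ.1 (h : P) v,
        (Char.mem_inertia B).1 h.2, hF]
      funext b
      show F (MulAut.conjNormal _ b) * _ = F b * _
      rw [hFinv]
      rfl
    let r : IrrCharacter B → P := fun ψ =>
      if hx : ∃ x, Char.conjFun B φ.1 x = ψ.1 then hx.choose else 1
    have hr : ∀ x, x * (r (Char.conjChar B φ x))⁻¹ ∈ I := by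
      intro x
      have hx : ∃ y, Char.conjFun B φ.1 y = (Char.conjChar B φ x).1 := ⟨x, rfl⟩
      simp only [r, dif_pos hx]
      refine (Char.mem_inertia B).2 ?_
      rw [Char.conjFun_mul, show Char.conjFun B φ.1 x = Char.conjFun B φ.1 hx.choose from
        hx.choose_spec.symm, ← Char.conjFun_mul, mul_inv_cancel, Char.conjFun_one]
    let Φ : I × C → S × I := fun hc =>
      (⟨Char.conjChar B φ (g hc.1 * hc.2), hmem hc.1 hc.2⟩, ⟨_, hr (g hc.1 * hc.2)⟩)
    have hΦ : Function.Injective Φ := by
      rintro ⟨h, c⟩ ⟨h', c'⟩ e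
      have e1 : Char.conjChar B φ (g h * c) = Char.conjChar B φ (g h' * c') :=
        congrArg (fun z : S × I => z.1.1) e
      have e2 : g h * c * (r (Char.conjChar B φ (g h * c)))⁻¹ =
          g h' * c' * (r (Char.conjChar B φ (g h' * c')))⁻¹ :=
        congrArg (fun z : S × I => (z.2 : P)) e
      rw [e1] at e2
      have e3 := mul_right_cancel e2
      have e4 : h = h' := Subtype.ext (mul_right_cancel ((hgc h c).symm.trans ((by rw [e3] : _ =
        g h' * c' * v * (g h' * c')⁻¹).trans (hgc h' c'))))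
      subst e4
      exact Prod.ext rfl (Subtype.ext (mul_left_cancel e3))
    have h1 := Nat.card_le_card_of_injective Φ hΦ
    rw [Nat.card_prod, Nat.card_prod, mul_comm (Nat.card S)] at h1
    have h2 : Nat.card C ≤ Nat.card S := Nat.le_of_mul_le_mul_left h1 Nat.card_pos
    have h3 : Nat.card S ≤ Nat.card ↥(B ⊓ C) := card_twistFixed_le B v F fun c hc => by
      obtain ⟨x, hx⟩ := hcam v hvT (v⁻¹ * c * v)
        (by simpa using (inferInstance : T.Normal).conj_mem _ (hBT hc) v⁻¹)
      exact ⟨x, by rw [hx]; group⟩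
    have h4 : B ⊓ C = C := eq_of_le_of_card_ge inf_le_right (h2.trans h3)
    have h5 : v ∈ C := mem_centralizer_singleton_iff.2 rfl
    rw [← h4] at h5
    exact hvT (hBT h5.1)

/-- A character with no trivial constituent on `T` vanishes off `T`. -/
theorem apply_eq_zero_of_not_mem [Fintype T] (hcam : ∀ x ∉ T, ∀ t ∈ T, ∃ g, g * x * g⁻¹ = x * t)
    (χ : IrrCharacter P) (hχ : classInner (Char.resFun T χ.1) (fun _ => 1) = 0) {x : P}
    (hx : x ∉ T) : χ.1 x = 0 := by
  classical
  haveI := Fintype.ofFinite P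
  set z : MonoidAlgebra ℂ P := Blocks.ofFun fun g => if g ∈ T then 1 else 0
  have hz : Blocks.IsCentralElt z := Blocks.isCentralElt_ofFun fun g h => by
    have : h * g * h⁻¹ ∈ T ↔ g ∈ T :=
      ⟨fun h' => by simpa [mul_assoc] using (inferInstance : T.Normal).conj_mem _ h' h⁻¹,
        fun h' => (inferInstance : T.Normal).conj_mem _ h' h⟩
    simp only [this]
  have hres : ∑ t : T, χ.1 t = 0 := by
    have h := hχ
    simp only [classInner, Char.resFun_apply, map_one, mul_one] at h
    exact (mul_eq_zero.1 h).resolve_left (inv_ne_zero Char.card_ne_zero)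
  have hz0 : Blocks.chiL χ.1 z = 0 := by
    rw [Blocks.chiL_eq_sum]
    simp only [z, Blocks.coeff_ofFun, ite_mul, one_mul, zero_mul, ← Finset.sum_filter]
    rw [Finset.sum_subtype _ (p := fun g => g ∈ T) (by simp)]
    exact hres
  have h1 : Blocks.chiL χ.1 (z * MonoidAlgebra.single x 1) = 0 := by
    rw [Blocks.chiL_mul_of_central χ hz, Blocks.omega, hz0, zero_div, zero_mul]
  have h2 : Blocks.chiL χ.1 (z * MonoidAlgebra.single x 1) = (Nat.card T : ℂ) * χ.1 x := by
    rw [Blocks.chiL_eq_sum]
    simp only [Blocks.coeff_mul_single', z, Blocks.coeff_ofFun, mul_one, ite_mul, one_mul, zero_mul,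
      ← Finset.sum_filter]
    rw [Finset.sum_congr rfl (g := fun _ => χ.1 x), Finset.sum_const, nsmul_eq_mul]
    · congr 2
      rw [Nat.card_eq_fintype_card, ← Finset.card_univ]
      refine Finset.card_bij' (fun g hg => (⟨g * x⁻¹, (Finset.mem_filter.1 hg).2⟩ : T))
        (fun t _ => (t : P) * x) ?_ ?_ ?_ ?_ <;> simp
    · intro g hg
      obtain ⟨c, hc⟩ := hcam x hx (x⁻¹ * (g * x⁻¹) * x)
        (by simpa using (inferInstance : T.Normal).conj_mem _ (Finset.mem_filter.1 hg).2 x⁻¹)
      rw [show g = c * x * c⁻¹ by rw [hc]; group]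
      exact Blocks.irr_classFun χ x c
  rw [h2] at h1
  exact (mul_eq_zero.1 h1).resolve_left (Nat.cast_ne_zero.2 Nat.card_pos.ne')

/-- For a nontrivial `θ ∈ Irr T` the inertia quotient is not cyclic. -/
theorem not_isCyclic_inertia (hP : IsPGroup p P) (hT : T ≠ ⊤)
    (hcam : ∀ x ∉ T, ∀ t ∈ T, ∃ g, g * x * g⁻¹ = x * t) (θ : IrrCharacter T)
    (hθ : θ.1 ≠ fun _ => 1) :
    ¬ IsCyclic ((Char.inertia T θ.1).map (QuotientGroup.mk' T)) := by
  classical
  intro hcyc
  haveI := Fintype.ofFinite P
  haveI := Fintype.ofFinite T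
  haveI := Fintype.ofFinite (Char.inertia T θ.1)
  have hTI := Char.irr_le_inertia T θ
  obtain ⟨ξ, hξ⟩ := FullyRam.exists_ext_cyclic T hTI θ (fun g hg => hg) hcyc
  have hres : ∀ n : T, ξ.1 ⟨n, hTI n.2⟩ = ((1 : ℕ) : ℂ) * θ.1 n := fun n => by
    rw [Nat.cast_one, one_mul]; exact hξ n
  set χ : IrrCharacter P := ⟨indFun _ ξ.1, Char.isIrrCharacter_indFun_inertia T _ hTI θ
    (fun g hg => hg) one_ne_zero hres⟩
  have hmult : classInner (Char.resFun T χ.1) θ.1 = 1 :=
    Char.classInner_resFun_indFun_inertia T _ hTI θ (fun g hg => hg)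
      (Char.IsCharacter.isClassFunction (Char.irr_isCharacter ξ)) one_ne_zero
      (fun n => by rw [one_mul]; exact hξ n)
  have htriv : classInner (Char.resFun T χ.1) (fun _ => 1) = 0 := by
    by_contra h
    obtain ⟨g, hg⟩ := Char.exists_conjChar_of_constituents T χ θ (Char.trivialChar T)
      (by rw [hmult]; exact one_ne_zero) h
    have h1 : Char.conjFun T θ.1 g = fun _ => 1 := (congrArg Subtype.val hg).symm
    refine hθ (funext fun n => ?_)
    have h2 := congrFun h1 ((MulAut.conjNormal g).symm n)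
    simpa [Char.conjFun] using h2
  have horb : Char.resFun T χ.1 = Char.orbitSum T θ := by
    rw [Char.resFun_eq_smul_orbitSum T χ θ (by rw [hmult]; exact one_ne_zero), hmult, one_smul]
  have hnorm : classInner (Char.resFun T χ.1) (Char.resFun T χ.1) =
      ((Char.inertia T θ.1).index : ℂ) := by
    rw [horb, Char.orbitSum, Char.classInner_sum_left, Char.index_inertia,
      Finset.sum_congr rfl (g := fun _ => (1 : ℂ)), Finset.sum_const, nsmul_eq_mul, mul_one]
    intro η hη
    rw [Char.classInner_sum_right, Finset.sum_eq_single η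
      (fun η' _ hne => Char.classInner_irr_of_ne η.2 η'.2 fun e => hne (Subtype.ext e.symm))
      (fun h => absurd hη h)]
    exact Char.classInner_irr_self η.2
  have hindex : (Char.inertia T θ.1).index = T.index := by
    have h1 := Char.classInner_irr_self χ.2
    simp only [classInner] at h1 hnorm
    have h2 : ∑ g : P, χ.1 g * conj (χ.1 g) = ∑ t : T, χ.1 t * conj (χ.1 t) := by
      rw [← Finset.sum_filter_add_sum_filter_not Finset.univ (fun g => g ∈ T),
        Finset.sum_eq_zero (s := Finset.univ.filter fun g => ¬ g ∈ T) fun g hg => by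
          rw [apply_eq_zero_of_not_mem T hcam χ htriv (Finset.mem_filter.1 hg).2, zero_mul],
        add_zero, Finset.sum_subtype _ (p := fun g => g ∈ T) (by simp)]
    rw [h2, inv_mul_eq_iff_eq_mul₀ Char.card_ne_zero, mul_one] at h1
    simp only [Char.resFun_apply] at hnorm
    rw [h1, ← Subgroup.card_mul_index T, Nat.cast_mul, ← mul_assoc,
      inv_mul_cancel₀ Char.card_ne_zero, one_mul] at hnorm
    exact_mod_cast hnorm.symm
  refine inertia_not_le T hP hT hcam T le_rfl θ (ge_of_eq ?_)
  refine eq_of_le_of_card_ge hTI ?_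
  have h1 := Subgroup.card_mul_index (Char.inertia T θ.1)
  rw [hindex, ← Subgroup.card_mul_index T] at h1
  exact (Nat.eq_of_mul_eq_mul_right (Nat.pos_of_ne_zero index_ne_zero_of_finite) h1).le

end Cfsg.Agent.Camina
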