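import Cfsg.Agent.Lib.Camina.Inertia
import Cfsg.Agent.Lib.Camina.FixedVector
import Cfsg.Agent.Lib.PGroup.UniqueOrderP
import Cfsg.Agent.Lib.Blocks.ModReduction
import Cfsg.Agent.Lib.CharInt.Kazarin
import Cfsg.Agent.Lib.CharInt.Basic

/-!
# A Camina pair of `p`-groups, `p` odd, has no coprime module free off the kernel

`(P, T)` a Camina pair of `p`-groups with `P/T` not cyclic, `p` odd, `q ≠ p`: there is no non-zero
representation of `P` over `ZMod q` in which every element outside `T` fixes only zero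
(`false_of_free`).  Over an algebraically closed field cut out by the reduction of a central
idempotent of some `θ ∈ Irr T`; its inertia quotient contains a subgroup of type `(p, p)`, and
`exists_fixed` applies.
-/

set_option autoImplicit false
set_option linter.style.haveILetI false
set_option linter.unusedSectionVars false

namespace Cfsg.Agent.Camina

open Cfsg Cfsg.Agent.Blocks MonoidAlgebra
open scoped ComplexConjugate Cfsg.Agent.Blocks

universe u

variable {p : ℕ} [hp : Fact p.Prime]

/-- A non-cyclic `p`-group, `p` odd, contains a subgroup of type `(p, p)`. -/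
theorem exists_injective_of_not_isCyclic (hp2 : p ≠ 2) {Q : Type u} [Group Q] [Finite Q]
    (hQ : IsPGroup p Q) (hnc : ¬ IsCyclic Q) :
    ∃ ψ : Multiplicative (ZMod p × ZMod p) →* Q, Function.Injective ψ := by
  classical
  obtain ⟨H, K, hH, hK, hne⟩ : ∃ H K : Subgroup Q, Nat.card H = p ∧ Nat.card K = p ∧ H ≠ K := by
    by_contra h
    push Not at h
    rcases PGroup.cyclic_or_quaternion_of_unique hQ h with hc | ⟨h2, -⟩
    · exact hnc hc
    · exact hp2 h2
  haveI : Nontrivial Q := by
    by_contra hnt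
    haveI := not_nontrivial_iff_subsingleton.1 hnt
    exact hnc isCyclic_of_subsingleton
  haveI := hQ.center_nontrivial
  obtain ⟨a, ha⟩ := (hQ.to_subgroup (Subgroup.center Q)).exists_card_eq
  obtain ⟨⟨z, hzc⟩, hz⟩ := exists_prime_orderOf_dvd_card' (G := Subgroup.center Q) p (by
    rcases Nat.eq_zero_or_pos a with rfl | h
    · exact absurd (ha.trans (pow_zero p)) Finite.one_lt_card.ne'
    · rw [ha]; exact dvd_pow_self p h.ne')
  rw [Subgroup.orderOf_mk] at hz
  obtain ⟨y, hy, hyz⟩ : ∃ y : Q, y ^ p = 1 ∧ y ∉ Subgroup.zpowers z := by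
    by_contra h
    push Not at h
    have : ∀ H : Subgroup Q, Nat.card H = p → H = Subgroup.zpowers z := fun H hH =>
      Subgroup.eq_of_le_of_card_ge (fun x hx => h x (by
          have := pow_card_eq_one' (x := (⟨x, hx⟩ : H))
          rw [hH] at this
          exact congrArg Subtype.val this))
        (by rw [Nat.card_zpowers, hz, hH])
    exact hne ((this H hH).trans (this K hK).symm)
  have hcyc : ∀ x : Q, x ^ p = 1 → ∃ f : Multiplicative (ZMod p) →* Q,
      f (Multiplicative.ofAdd 1) = x := by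
    intro x hx
    refine ⟨AddMonoidHom.toMultiplicativeLeft (ZMod.lift p
      ⟨zmultiplesHom (Additive Q) (Additive.ofMul x), ?_⟩), ?_⟩
    · show ((p : ℤ) • Additive.ofMul x) = 0
      rw [natCast_zsmul, ← ofMul_pow, hx, ofMul_one]
    · show Additive.toMul (ZMod.lift p _ (1 : ZMod p)) = x
      rw [show (1 : ZMod p) = ((1 : ℤ) : ZMod p) by simp, ZMod.lift_coe]
      simp
  obtain ⟨f, hf⟩ := hcyc z (by rw [← hz, pow_orderOf_eq_one])
  obtain ⟨g, hg⟩ := hcyc y hy
  have hfv : ∀ a : Multiplicative (ZMod p), f a = z ^ a.toAdd.val := fun a => by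
    rw [← hf, ← map_pow, ← ofAdd_nsmul, nsmul_one, ZMod.natCast_zmod_val]
    rfl
  have hgv : ∀ a : Multiplicative (ZMod p), g a = y ^ a.toAdd.val := fun a => by
    rw [← hg, ← map_pow, ← ofAdd_nsmul, nsmul_one, ZMod.natCast_zmod_val]
    rfl
  have hcomm : ∀ a b, Commute (f a) (g b) := fun a b => by
    rw [hfv]
    exact Commute.pow_left (Subgroup.mem_center_iff.1 hzc (g b)).symm _
  refine ⟨(MonoidHom.noncommCoprod f g hcomm).comp (MulEquiv.prodMultiplicative (ZMod p) (ZMod p)).toMonoidHom, ?_⟩
  refine Function.Injective.comp (g := ⇑(MonoidHom.noncommCoprod f g hcomm)) ?_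
    (MulEquiv.prodMultiplicative (ZMod p) (ZMod p)).injective
  rw [injective_iff_map_eq_one]
  rintro ⟨a, b⟩ h
  rw [MonoidHom.noncommCoprod_apply, hfv, hgv] at h
  have hy1 : orderOf y = p :=
    orderOf_eq_prime hy fun h1 => hyz (h1 ▸ one_mem _)
  have hb : b.toAdd = 0 := by
    by_contra hb
    have hmem : y ^ b.toAdd.val ∈ Subgroup.zpowers z := by
      rw [eq_inv_of_mul_eq_one_right h]
      exact inv_mem (Subgroup.npow_mem_zpowers z _)
    refine hyz ?_
    obtain ⟨m, hm⟩ := exists_pow_eq_self_of_coprime (x := y) (n := b.toAdd.val) (by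
      rw [hy1]
      exact (hp.out.coprime_iff_not_dvd.2 fun hd => hb ((ZMod.val_eq_zero _).1
        (Nat.eq_zero_of_dvd_of_lt hd (ZMod.val_lt _)))).symm)
    rw [← hm]
    exact pow_mem hmem m
  rw [hb, ZMod.val_zero, pow_zero, mul_one] at h
  have ha : a.toAdd = 0 := (ZMod.val_eq_zero _).1 (Nat.eq_zero_of_dvd_of_lt
    (hz.symm.dvd.trans (orderOf_dvd_of_pow_eq_one h)) (ZMod.val_lt _))
  exact Prod.ext (Multiplicative.toAdd.injective ha) (Multiplicative.toAdd.injective hb)

/-- No coprime module is free off `T`. -/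
theorem false_of_free (hp2 : p ≠ 2) {P : Type u} [Group P] [Finite P] (hP : IsPGroup p P)
    (T : Subgroup P) [T.Normal] (hT : T ≠ ⊤) (hnc : ¬ IsCyclic (P ⧸ T))
    (hcam : ∀ x ∉ T, ∀ t ∈ T, ∃ g, g * x * g⁻¹ = x * t)
    {q : ℕ} [hq : Fact q.Prime] (hqp : q ≠ p) {n : ℕ} (hn : 0 < n)
    (r : P →* Matrix (Fin n) (Fin n) (ZMod q))
    (hfree : ∀ y ∉ T, ∀ v : Fin n → ZMod q, Matrix.mulVec (r y) v = v → v = 0) : False := by
  classical
  haveI := Fintype.ofFinite T
  obtain ⟨M, hM⟩ := CharInt.exists_isPModular_of_prime hq.out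
  haveI : M.IsMaximal := hM.2.1
  have hqM := hM.2.2
  haveI : CharP (AlgInt ⧸ M) q := charP_residue hqM
  haveI : IsAlgClosed (AlgInt ⧸ M) := isAlgClosed_residue
  set k := AlgInt ⧸ M
  have hpow : ¬ q ∣ Nat.card T := by
    obtain ⟨a, ha⟩ := IsPGroup.iff_card.1 (hP.to_subgroup T)
    rw [ha]
    exact fun h => hqp ((Nat.prime_dvd_prime_iff_eq hq.out hp.out).1 (hq.out.dvd_of_dvd_pow h))
  have hpk : (p : k) ≠ 0 := by
    rw [Ne, CharP.cast_eq_zero_iff k q]
    exact fun h => hqp ((Nat.prime_dvd_prime_iff_eq hq.out hp.out).1 h)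
  have hTk : (Nat.card T : k) ≠ 0 := by rwa [Ne, CharP.cast_eq_zero_iff k q]
  -- the representation over `k`
  let c : ZMod q →+* k := ZMod.castHom dvd_rfl k
  let ρ : P →* Module.End k (Fin n → k) :=
    (Matrix.toLinAlgEquiv' (R := k) (n := Fin n)).toAlgHom.toRingHom.toMonoidHom.comp
      (c.mapMatrix.toMonoidHom.comp r)
  have hfpf : ∀ y ∉ T, ∀ w : Fin n → k, ρ y w = w → w = 0 := by
    intro y hy w hw
    by_contra hw0
    have h1 : ((r y - 1).map c).det = 0 := by
      refine Matrix.exists_mulVec_eq_zero_iff.1 ⟨w, hw0, ?_⟩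
      show Matrix.mulVec (c.mapMatrix (r y - 1)) w = 0
      rw [map_sub, map_one, Matrix.sub_mulVec, Matrix.one_mulVec, sub_eq_zero]
      simpa [ρ] using hw
    rw [← RingHom.mapMatrix_apply, ← RingHom.map_det, map_eq_zero_iff c c.injective,
      ← Matrix.exists_mulVec_eq_zero_iff] at h1
    obtain ⟨v, hv, hv0⟩ := h1
    rw [Matrix.sub_mulVec, Matrix.one_mulVec, sub_eq_zero] at hv0
    exact hv (hfree y hy v hv0)
  let ρT : MonoidAlgebra k T →ₐ[k] Module.End k (Fin n → k) :=
    MonoidAlgebra.lift k (Module.End k (Fin n → k)) T (ρ.comp T.subtype)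
  have hρTsum : ∀ x : MonoidAlgebra k T, ρT x = ∑ t : T, x.coeff t • ρ t := by
    intro x
    conv_lhs => rw [eq_sum_single x]
    rw [map_sum]
    exact Finset.sum_congr rfl fun t _ => by rw [MonoidAlgebra.lift_single]; rfl
  -- the idempotents
  have hscoeff : ∀ θ : IrrCharacter T, SCoeff M (blockIdem ({θ} : Set (IrrCharacter T))) := by
    intro θ g
    rw [coeff_blockIdem, blockCoeff, finsum_mem_singleton]
    refine MemLocalRing.mul (memLocalRing_inv_natCast hqM hpow)
      (memLocalRing_of_isIntegral ((CharInt.isIntegral_char (Char.irr_isCharacter θ) 1).mul ?_))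
    rw [Char.IsCharacter.conj_apply (Char.irr_isCharacter θ) g]
    exact CharInt.isIntegral_char (Char.irr_isCharacter θ) _
  obtain ⟨θ, hθ⟩ : ∃ θ : IrrCharacter T, ρT (redA M (blockIdem {θ})) ≠ 0 := by
    by_contra h
    push Not at h
    have h1 : ∑ θ : IrrCharacter T, blockIdem ({θ} : Set (IrrCharacter T)) = 1 :=
      central_ext (IsCentralElt.sum _ fun θ _ => isCentralElt_blockIdem _) isCentralElt_one fun η => by
        rw [omega_sum, omega_one,
          Finset.sum_congr rfl fun θ _ => omega_blockIdem η ({θ} : Set (IrrCharacter T))]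
        simp
    have h2 : redA M (∑ θ : IrrCharacter T, blockIdem ({θ} : Set (IrrCharacter T))) =
        ∑ θ : IrrCharacter T, redA M (blockIdem ({θ} : Set (IrrCharacter T))) :=
      alg_ext fun g => by
        simp only [coeff_redA, MonoidAlgebra.coeff_sum, Finsupp.coe_finset_sum, Finset.sum_apply]
        exact red_sum _ fun θ _ => hscoeff θ g
    have h3 := congrArg ρT h2
    rw [h1, redA_one, map_one, map_sum, Finset.sum_eq_zero fun θ _ => h θ] at h3
    obtain ⟨w, hw⟩ : ∃ w : Fin n → k, w ≠ 0 :=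
      ⟨fun _ => 1, fun h0 => one_ne_zero (congrFun h0 ⟨0, hn⟩)⟩
    exact hw (LinearMap.congr_fun h3 w)
  set e := redA M (blockIdem ({θ} : Set (IrrCharacter T))) with he
  set E : Submodule k (Fin n → k) := LinearMap.range (ρT e)
  haveI : Nontrivial E := Submodule.nontrivial_iff_ne_bot.2 fun h => hθ (LinearMap.range_eq_bot.1 h)
  -- the inertia group leaves `E` invariant
  have hstab : ∀ g ∈ Char.inertia T θ.1, ∀ x ∈ E, ρ g x ∈ E := by
    rintro g hg _ ⟨x, rfl⟩
    refine ⟨ρ g x, ?_⟩
    have hc : ∀ t : T, e.coeff (MulAut.conjNormal g t) = e.coeff t := fun t => by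
      have h1 := congrFun ((Char.mem_inertia T).1 hg) t
      simp only [Char.conjFun] at h1
      simp only [he, coeff_redA, coeff_blockIdem, blockCoeff, finsum_mem_singleton, h1]
    have hcm : ρT e * ρ g = ρ g * ρT e := by
      simp only [hρTsum, Finset.sum_mul, Finset.mul_sum]
      refine (Fintype.sum_equiv (MulAut.conjNormal g : MulAut T).toEquiv _ _ fun t => ?_).symm
      simp only [MulEquiv.toEquiv_eq_coe, EquivLike.coe_coe, hc, smul_mul_assoc, mul_smul_comm,
        ← map_mul, MulAut.conjNormal_apply]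
      congr 2
      group
    exact LinearMap.congr_fun hcm x
  -- a subgroup of type `(p, p)` of the inertia quotient
  set Qs := (Char.inertia T θ.1).map (QuotientGroup.mk' T)
  have hQnc : ¬ IsCyclic Qs := by
    by_cases h1 : θ.1 = fun _ => 1
    · have hI : Char.inertia T θ.1 = ⊤ := eq_top_iff.2 fun g _ =>
        (Char.mem_inertia T).2 (by rw [h1]; rfl)
      intro hc
      have : Qs = ⊤ := by
        simp only [Qs, hI, Subgroup.map_top_of_surjective _ (QuotientGroup.mk'_surjective T)]
      exact hnc ((Subgroup.topEquiv (G := P ⧸ T)).isCyclic.1 (this ▸ hc))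
    · exact not_isCyclic_inertia T hP hT hcam θ h1
  obtain ⟨ψ, hψ⟩ := exists_injective_of_not_isCyclic hp2 ((hP.to_quotient T).to_subgroup Qs) hQnc
  set ψ' := Qs.subtype.comp ψ
  have hψ' : Function.Injective ψ' := Qs.subtype_injective.comp hψ
  let Y : Subgroup P := ψ'.range.comap (QuotientGroup.mk' T)
  have hYI : Y ≤ Char.inertia T θ.1 := by
    rintro y ⟨z, hz⟩
    obtain ⟨i, hi, hi'⟩ := (ψ z).2
    have h1 : QuotientGroup.mk' T i = QuotientGroup.mk' T y := hi'.trans hz
    rw [QuotientGroup.mk'_eq_mk'] at h1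
    obtain ⟨t, ht, rfl⟩ := h1
    exact mul_mem hi (Char.irr_le_inertia T θ ht)
  let π : Y →* Multiplicative (ZMod p × ZMod p) :=
    (MonoidHom.ofInjective hψ').symm.toMonoidHom.comp
      (((QuotientGroup.mk' T).comp Y.subtype).codRestrict ψ'.range fun y => y.2)
  have hπ1 : ∀ y : Y, π y = 1 ↔ (y : P) ∈ T := fun y => by
    show (MonoidHom.ofInjective hψ').symm _ = 1 ↔ _
    rw [EmbeddingLike.map_eq_one_iff, Subtype.ext_iff]
    exact QuotientGroup.eq_one_iff (y : P)
  have hπs : Function.Surjective π := by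
    intro z
    obtain ⟨y, hy⟩ := QuotientGroup.mk'_surjective T (ψ' z)
    refine ⟨⟨y, z, hy.symm⟩, ?_⟩
    show (MonoidHom.ofInjective hψ').symm _ = z
    rw [MulEquiv.symm_apply_eq]
    exact Subtype.ext hy
  let ρY : Y →* Module.End k E :=
    { toFun := fun g => (ρ g).restrict (hstab g (hYI g.2))
      map_one' := by ext x; simp
      map_mul' := fun g h => by ext x; simp }
  have hcs : CentreScalar (k := k) (W := E) ρY π.ker := by
    intro X hX hXc
    obtain ⟨x, hx⟩ : ∃ x : MonoidAlgebra k T, ∀ w : E, (X w : Fin n → k) = ρT x w := by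
      clear hXc
      induction hX using Submodule.span_induction with
      | mem z hz =>
        obtain ⟨g, hg, rfl⟩ := hz
        exact ⟨single ⟨(g : P), (hπ1 g).1 hg⟩ 1, fun w => by simp [ρT, ρY]⟩
      | zero => exact ⟨0, fun w => by simp⟩
      | add a b _ _ iha ihb =>
        obtain ⟨x, hx⟩ := iha
        obtain ⟨y, hy⟩ := ihb
        exact ⟨x + y, fun w => by simp [hx w, hy w]⟩
      | smul s a _ iha =>
        obtain ⟨x, hx⟩ := iha
        exact ⟨s • x, fun w => by simp [hx w]⟩
    -- average to a central element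
    set x' : MonoidAlgebra k T :=
      (Nat.card T : k)⁻¹ • ∑ s : T, single s 1 * x * single s⁻¹ 1 with hx'
    have hxc : IsCentralElt x' := by
      refine isCentralElt_iff_commute.2 fun a => Commute.smul_left ?_ _
      show _ * _ = _ * _
      rw [Finset.sum_mul, Finset.mul_sum]
      refine (Fintype.sum_equiv (Equiv.mulLeft a⁻¹) _ _ fun s => ?_)
      simp only [Equiv.coe_mulLeft, ← mul_assoc, single_mul_single, one_mul]
      simp only [mul_assoc, single_mul_single, one_mul, mul_inv_rev, inv_inv]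
      rw [mul_inv_cancel_left]
    have hX' : ∀ w : E, (X w : Fin n → k) = ρT x' w := by
      intro w
      have hterm : ∀ s : T, ρT (single s 1 * x * single s⁻¹ 1) (w : Fin n → k) = (X w : Fin n → k) := by
        intro s
        have hsY : ∀ t : T, (t : P) ∈ Y :=
          fun t => ⟨1, by rw [map_one]; exact ((QuotientGroup.eq_one_iff (t : P)).2 t.2).symm⟩
        have h1 := LinearMap.congr_fun
          (hXc ⟨_, hsY s⁻¹⟩ (MonoidHom.mem_ker.2 ((hπ1 ⟨_, hsY s⁻¹⟩).2 (s⁻¹).2))) w
        have h2 := congrArg (fun v : E => (v : Fin n → k)) h1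
        simp only [Module.End.mul_apply] at h2
        rw [hx] at h2
        have hsing : ∀ t : T, ρT (single t 1) = ρ (t : P) := fun t => by
          simp [ρT]
        rw [map_mul, map_mul, hsing, hsing, Module.End.mul_apply, Module.End.mul_apply]
        refine (congrArg (ρ (s : P)) h2).trans ?_
        show ρ (s : P) (ρ ((s⁻¹ : T) : P) (X w : Fin n → k)) = _
        rw [← Module.End.mul_apply, ← map_mul, ← Subgroup.coe_mul, mul_inv_cancel, OneMemClass.coe_one,
          map_one, Module.End.one_apply]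
      rw [hx', map_smul, map_sum, LinearMap.smul_apply, LinearMap.sum_apply,
        Finset.sum_congr rfl fun s _ => hterm s, Finset.sum_const, Finset.card_univ,
        ← Nat.cast_smul_eq_nsmul k, smul_smul, ← Nat.card_eq_fintype_card, inv_mul_cancel₀ hTk,
        one_smul]
    -- lift it
    choose l hl using fun a : k => red_surjective (M := M) a
    set z : MonoidAlgebra ℂ T := ofFun fun t => ((l (x'.coeff t) : AlgInt) : ℂ)
    have hzc : IsCentralElt z := isCentralElt_ofFun fun g h => by rw [hxc g h]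
    have hzS : SCoeff M z := scoeff_ofFun fun g => memLocalRing_coe _
    have hzred : redA M z = x' := alg_ext fun t => by simp [z, hl]
    have hze : z * blockIdem ({θ} : Set (IrrCharacter T)) =
        omega θ.1 z • blockIdem ({θ} : Set (IrrCharacter T)) :=
      central_ext (IsCentralElt.mul hzc (isCentralElt_blockIdem _))
        (IsCentralElt.smul _ (isCentralElt_blockIdem _)) fun η => by
          rw [omega_mul η hzc, omega_smul, omega_blockIdem]
          by_cases hη : η = θ
          · subst hη; rfl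
          · simp [hη]
    have hred := congrArg (redA M) hze
    rw [redA_mul hzS (hscoeff θ), redA_smul (memLocalRing_omega θ hzc hzS) (hscoeff θ), hzred,
      ← he] at hred
    refine ⟨red M (omega θ.1 z), LinearMap.ext fun w => Subtype.ext ?_⟩
    obtain ⟨v, hv⟩ := w.2
    rw [hX', ← hv, ← Module.End.mul_apply, ← map_mul, hred, map_smul, LinearMap.smul_apply, hv]
    rfl
  obtain ⟨y, hy, w, hw, hfix⟩ := exists_fixed hp2 hpk _ Y (hP.to_subgroup Y) E le_rfl ρY π hπs hcs
  exact hw (Subtype.ext (hfpf y (fun h => hy ((hπ1 y).2 h)) w (congrArg Subtype.val hfix)))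

end Cfsg.Agent.Camina
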